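import Cfsg.Agent.NSE.SharpEleven
import Cfsg.Agent.Golay.MathieuSimple

/-!
`M₁₁` as a sharply 4-transitive group of degree 11, and the simplicity of groups with the same
order and the same numbers of elements of given order.
-/

set_option autoImplicit false
set_option linter.style.haveILetI false

namespace Cfsg.Agent.NSE

open MulAction Sharply Cfsg

/-- The eleven points. -/
abbrev Pts := {x : GolayPt // x ∈ Golay.sqPts}

theorem M11_mem_pts (m : Spor.M11) (x : Pts) : (m : Equiv.Perm GolayPt) x.1 ∈ Golay.sqPts := by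
  obtain ⟨-, hd, h0⟩ := Golay.mem_M11_iff.mp m.2
  have hx := Golay.mem_sqPts.mp x.2
  refine Golay.mem_sqPts.mpr ⟨fun e => hx.1 ((m : Equiv.Perm GolayPt).injective (e.trans h0.symm)),
    (Golay.apply_mem_octad_iff hd x.1).mpr hx.2⟩

instance : MulAction Spor.M11 Pts where
  smul m x := ⟨(m : Equiv.Perm GolayPt) x.1, M11_mem_pts m x⟩
  one_smul _ := rfl
  mul_smul _ _ _ := rfl

theorem smul_pts_val (m : Spor.M11) (x : Pts) : (m • x).1 = (m : Equiv.Perm GolayPt) x.1 := rfl

theorem M11_key (g : Spor.M11) {a b c d : Pts} (hd : Distinct4 a b c d)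
    (ha : g • a = a) (hb : g • b = b) (hc : g • c = c) (hd' : g • d = d) : g = 1 := by
  obtain ⟨hM, hD, h0⟩ := Golay.mem_M11_iff.mp g.2
  obtain ⟨h1, h2, h3, h4, h5, h6⟩ := hd
  refine Subtype.ext (Golay.eq_one_of_fix_five (d := Spor.squareDodecad) Golay.squareDodecad_mem hM hD
    (F := {(some 0 : GolayPt), a.1, b.1, c.1, d.1}) ?_ (le_of_eq ?_) ?_)
  · intro x hx
    simp only [Finset.mem_insert, Finset.mem_singleton] at hx
    rcases hx with rfl | rfl | rfl | rfl | rfl
    exacts [by decide +kernel, (Golay.mem_sqPts.mp a.2).2, (Golay.mem_sqPts.mp b.2).2,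
      (Golay.mem_sqPts.mp c.2).2, (Golay.mem_sqPts.mp d.2).2]
  · have hne : ∀ x : Pts, x.1 ≠ some 0 := fun x => (Golay.mem_sqPts.mp x.2).1
    simp [Subtype.val_inj, h1, h2, h3, h4, h5, h6, (hne _).symm]
  · intro x hx
    simp only [Finset.mem_insert, Finset.mem_singleton] at hx
    rcases hx with rfl | rfl | rfl | rfl | rfl
    exacts [h0, congrArg Subtype.val ha, congrArg Subtype.val hb, congrArg Subtype.val hc, congrArg Subtype.val hd']

theorem M11_eleven : Eleven Spor.M11 Pts := by
  have hdeg : Fintype.card Pts = 11 := by rw [Fintype.card_coe]; exact Golay.sqPts_card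
  refine ⟨⟨fun g a b c d h => M11_key g h, ?_⟩, hdeg, Golay.card_M11, Golay.isSimpleGroup_M11⟩
  intro a b c d a' b' c' d' h h'
  let x := emb4 h
  let f : Spor.M11 → (Fin 4 ↪ Pts) := fun g => g • x
  have hinj : Function.Injective f := fun g k e => by
    have he : ∀ i, g • x i = k • x i := fun i => congrArg (fun y : Fin 4 ↪ Pts => y i) e
    refine (inv_mul_eq_one.mp (M11_key (k⁻¹ * g) h ?_ ?_ ?_ ?_)).symm
    all_goals rw [mul_smul, inv_smul_eq_iff]
    exacts [he 0, he 1, he 2, he 3]
  have hbij : Function.Bijective f := by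
    haveI := Fintype.ofFinite Spor.M11
    refine (Fintype.bijective_iff_injective_and_card f).mpr ⟨hinj, ?_⟩
    rw [← Nat.card_eq_fintype_card, Golay.card_M11, Fintype.card_embedding_eq, hdeg, Fintype.card_fin]
    rfl
  obtain ⟨g, hg⟩ := hbij.2 (emb4 h')
  have he : ∀ i, g • x i = emb4 h' i := fun i => congrArg (fun y : Fin 4 ↪ Pts => y i) hg
  exact ⟨g, he 0, he 1, he 2, he 3⟩

/-- A group of order 7920 with the element numbers of `M₁₁` is simple. -/
theorem isSimpleGroup_of_nse {G : Type*} [Group G] [Finite G] (hcard : Nat.card G = 7920)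
    (hnse : {c : ℕ | 0 < c ∧ ∃ n : ℕ, c = Nat.card {g : G // orderOf g = n}} =
      {1, 165, 440, 990, 1584, 1320, 1980, 1440}) : IsSimpleGroup G := by
  haveI h11 : Fact (Nat.Prime 11) := ⟨by norm_num⟩
  haveI h5 : Fact (Nat.Prime 5) := ⟨by norm_num⟩
  have hsyl : ∀ (p n : ℕ) [Fact p.Prime], ¬ p ^ 2 ∣ 7920 → p ∣ 7920 →
      (∀ c ∈ ({1, 165, 440, 990, 1584, 1320, 1980, 1440} : Finset ℕ), c % (p - 1) = 0 →
        c / (p - 1) % p = 1 → c = n * (p - 1)) →
      (∀ P : Sylow p G, Nat.card P = p) ∧ Nat.card (Sylow p G) = n := by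
    intro p n hp hp2 hpd hc
    have hpp := hp.out
    have hcardP : ∀ P : Sylow p G, Nat.card P = p := fun P => by
      obtain ⟨k, hk⟩ := (IsPGroup.iff_card (p := p)).mp P.isPGroup'
      have h1 : p ^ k ∣ 7920 := hk ▸ hcard ▸ (P : Subgroup G).card_subgroup_dvd_card
      have hk1 : k < 2 := by
        by_contra h2
        exact hp2 ((pow_dvd_pow p (by omega)).trans h1)
      have hk0 : k ≠ 0 := by
        rintro rfl
        have h2 := P.dvd_card_of_dvd_card (hcard ▸ hpd)
        rw [hk, pow_zero, Nat.dvd_one] at h2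
        exact hpp.one_lt.ne' h2
      rw [hk, show k = 1 by omega, pow_one]
    refine ⟨hcardP, ?_⟩
    have hcnt := card_orderOf_prime (G := G) (p := p) hcardP
    obtain ⟨g, hg⟩ := exists_prime_orderOf_dvd_card' (G := G) p (hcard ▸ hpd)
    have hpos : 0 < Nat.card {g : G // orderOf g = p} := by
      haveI : Nonempty {g : G // orderOf g = p} := ⟨⟨g, hg⟩⟩
      exact Nat.card_pos
    have hmem : Nat.card {g : G // orderOf g = p} ∈ ({1, 165, 440, 990, 1584, 1320, 1980, 1440} : Set ℕ) :=
      hnse ▸ ⟨hpos, p, rfl⟩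
    have hmod := card_sylow_modEq_one p G
    rw [Nat.ModEq, Nat.mod_eq_of_lt hpp.one_lt] at hmod
    have h2 := hpp.two_le
    have := hc _ (by simpa using hmem) (by rw [hcnt]; exact Nat.mul_mod_left _ _)
      (by rw [hcnt, Nat.mul_div_cancel _ (by omega)]; exact hmod)
    rw [hcnt] at this
    exact Nat.eq_of_mul_eq_mul_right (by omega) this
  obtain ⟨hP11, hn11⟩ := hsyl 11 144 (by norm_num) (by norm_num) (by decide +kernel)
  obtain ⟨hP5, hn5⟩ := hsyl 5 396 (by norm_num) (by norm_num) (by decide +kernel)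
  have hN11 : ∀ P : Sylow 11 G, Nat.card (Subgroup.normalizer ((P : Subgroup G) : Set G)) = 55 := by
    intro P
    have h1 := (Subgroup.normalizer ((P : Subgroup G) : Set G)).card_mul_index
    have h2 : 144 = (Subgroup.normalizer ((P : Subgroup G) : Set G)).index :=
      hn11.symm.trans P.card_eq_index_normalizer
    rw [hcard, ← h2] at h1
    omega
  have hN5 : ∀ P : Sylow 5 G, Nat.card (Subgroup.normalizer ((P : Subgroup G) : Set G)) = 20 := by
    intro P
    have h1 := (Subgroup.normalizer ((P : Subgroup G) : Set G)).card_mul_index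
    have h2 : 396 = (Subgroup.normalizer ((P : Subgroup G) : Set G)).index :=
      hn5.symm.trans P.card_eq_index_normalizer
    rw [hcard, ← h2] at h1
    omega
  -- no non-trivial normal subgroup of order prime to eleven
  have hsmall : ∀ N : Subgroup G, N.Normal → ¬ 11 ∣ Nat.card N → N = ⊥ := by
    intro N hN hN11'
    by_contra hne
    obtain ⟨q, hq, hqN⟩ := Nat.exists_prime_and_dvd (n := Nat.card N)
      (fun e => hne (Subgroup.eq_bot_of_card_eq N e))
    haveI := Fact.mk hq
    obtain ⟨Q⟩ : Nonempty (Sylow q N) := inferInstance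
    haveI := hN
    set Q' : Subgroup G := (Q : Subgroup N).map N.subtype with hQ'
    have hfr : Subgroup.normalizer (Q' : Set G) ⊔ N = ⊤ := Sylow.normalizer_sup_eq_top Q
    have h11N : 11 ∣ Nat.card (Subgroup.normalizer (Q' : Set G)) := by
      have h1 := N.card_mul_index
      rw [hcard, ← Subgroup.relIndex_top_right, ← hfr, Subgroup.relIndex_sup_right] at h1
      have h2 : 11 ∣ N.relIndex (Subgroup.normalizer (Q' : Set G)) :=
        ((Nat.Prime.dvd_mul h11.out).mp ((by norm_num : 11 ∣ 7920).trans (dvd_of_eq h1.symm))).resolve_left hN11'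
      exact h2.trans (Subgroup.relIndex_dvd_card _ _)
    obtain ⟨⟨w, hw⟩, hwo⟩ := exists_prime_orderOf_dvd_card' (G := Subgroup.normalizer (Q' : Set G)) 11 h11N
    rw [Subgroup.orderOf_mk] at hwo
    have hQcard : Nat.card Q' = Nat.card Q :=
      Nat.card_congr ((Q : Subgroup N).equivMapOfInjective _ N.subtype_injective).symm.toEquiv
    obtain ⟨k, hk⟩ := (IsPGroup.iff_card (p := q)).mp Q.isPGroup'
    have hk0 : k ≠ 0 := by
      rintro rfl
      have h2 := Q.dvd_card_of_dvd_card hqN
      rw [hk, pow_zero, Nat.dvd_one] at h2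
      exact hq.one_lt.ne' h2
    rcases eq_or_ne q 5 with rfl | hq5
    · obtain ⟨S, hS⟩ := (IsPGroup.of_card (G := Q') (n := k) (p := 5) (hQcard.trans hk)).exists_le_sylow
      have heq : Q' = (S : Subgroup G) := Subgroup.eq_of_le_of_card_ge hS (by
        rw [hP5 S, hQcard, hk]; exact Nat.le_self_pow hk0 5)
      rw [heq, hN5 S] at h11N
      omega
    · -- the element of order eleven acts without fixed points on `Q'`
      have hq11 : q ≠ 11 := fun e => hN11' (e ▸ hqN)
      have hact : ∀ x ∈ Q', w * x * w⁻¹ ∈ Q' := fun x hx => (Subgroup.mem_normalizer_iff.mp hw x).mp hx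
      obtain ⟨P, hP⟩ := (IsPGroup.of_card (G := Subgroup.zpowers w) (n := 1) (p := 11)
        (by rw [Nat.card_zpowers, hwo, pow_one])).exists_le_sylow
      have hPeq : Subgroup.zpowers w = (P : Subgroup G) :=
        Subgroup.eq_of_le_of_card_ge hP (by rw [hP11, Nat.card_zpowers, hwo])
      have hfree : ∀ x ∈ Q', Commute w x → x = 1 := by
        intro x hx hc
        have hxN : x ∈ Subgroup.normalizer ((P : Subgroup G) : Set G) := by
          refine Subgroup.centralizer_le_normalizer _ ?_
          rw [← hPeq, Subgroup.zpowers_eq_closure, Subgroup.centralizer_closure]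
          exact Subgroup.mem_centralizer_singleton_iff.mpr hc.eq.symm
        have h1 := Subgroup.orderOf_dvd_natCard _ hxN
        rw [hN11] at h1
        have h2 : orderOf x ∣ q ^ k := by
          rw [← hk, ← hQcard]; exact Subgroup.orderOf_dvd_natCard _ hx
        refine orderOf_eq_one_iff.mp (Nat.eq_one_of_dvd_coprimes ?_ h2 h1)
        refine Nat.Coprime.pow_left _ ((Nat.Prime.coprime_iff_not_dvd hq).mpr fun hd => ?_)
        rcases (Nat.Prime.dvd_mul hq).mp (show q ∣ 5 * 11 by simpa using hd) with h3 | h3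
        · exact hq5 ((Nat.prime_dvd_prime_iff_eq hq (by norm_num)).mp h3)
        · exact hq11 ((Nat.prime_dvd_prime_iff_eq hq h11.out).mp h3)
      letI : MulAction (Subgroup.zpowers w) Q' :=
        { smul := fun u x => ⟨(u : G) * x * (u : G)⁻¹,
            (Subgroup.mem_normalizer_iff.mp ((Subgroup.zpowers_le.mpr hw) u.2) x).mp x.2⟩
          one_smul := fun x => Subtype.ext (show (1 : G) * x * (1 : G)⁻¹ = x by simp)
          mul_smul := fun u v x => Subtype.ext (show ((u : G) * v) * x * ((u : G) * v)⁻¹ = u * (v * x * (v : G)⁻¹) * (u : G)⁻¹ by group) }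
      have hmod := (IsPGroup.of_card (G := Subgroup.zpowers w) (n := 1) (p := 11)
        (by rw [Nat.card_zpowers, hwo, pow_one])).card_modEq_card_fixedPoints Q'
      have hfix : Nat.card (fixedPoints (Subgroup.zpowers w) Q') = 1 := by
        rw [Nat.card_eq_one_iff_unique]
        refine ⟨⟨fun a b => ?_⟩, ⟨⟨1, fun u => Subtype.ext (show (u : G) * 1 * (u : G)⁻¹ = 1 by simp)⟩⟩⟩
        have key : ∀ a : fixedPoints (Subgroup.zpowers w) Q', (a.1 : G) = 1 := fun a => by
          refine hfree _ a.1.2 ?_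
          have h1 : w * a.1 * w⁻¹ = a.1 := congrArg Subtype.val (a.2 ⟨w, Subgroup.mem_zpowers w⟩)
          exact (mul_inv_eq_iff_eq_mul.mp h1)
        exact Subtype.ext (Subtype.ext ((key a).trans (key b).symm))
      rw [hfix, hQcard, hk, Nat.ModEq] at hmod
      have hdvd : q ^ k ∣ 7920 := by
        rw [← hk, ← hQcard, ← hcard]; exact Q'.card_subgroup_dvd_card
      have hbound : ∀ d ∈ Nat.divisors 144, d % 11 = 1 → d = 1 ∨ d % 6 = 0 ∨ d = 144 := by decide +kernel
      have hd144 : q ^ k ∣ 144 := by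
        have c5 : Nat.Coprime (q ^ k) 5 := Nat.Coprime.pow_left _
          ((Nat.coprime_primes hq (by norm_num)).mpr hq5)
        have c11 : Nat.Coprime (q ^ k) 11 := Nat.Coprime.pow_left _ ((Nat.coprime_primes hq h11.out).mpr hq11)
        exact c5.dvd_of_dvd_mul_right (c11.dvd_of_dvd_mul_right (show q ^ k ∣ 144 * 5 * 11 by simpa using hdvd))
      have hsix : ¬ 6 ∣ q ^ k := fun h6 => by
        have h2 := (Nat.prime_dvd_prime_iff_eq Nat.prime_two hq).mp (Nat.prime_two.dvd_of_dvd_pow ((by norm_num : 2 ∣ 6).trans h6))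
        have h3 := (Nat.prime_dvd_prime_iff_eq Nat.prime_three hq).mp (Nat.prime_three.dvd_of_dvd_pow ((by norm_num : 3 ∣ 6).trans h6))
        omega
      rcases hbound _ (Nat.mem_divisors.mpr ⟨hd144, by norm_num⟩) hmod with h1 | h1 | h1
      · exact absurd ((Nat.pow_eq_one.mp h1).resolve_right hk0) hq.one_lt.ne'
      · exact hsix (Nat.dvd_of_mod_eq_zero h1)
      · exact hsix (h1 ▸ by norm_num)
  haveI : Nontrivial G := Finite.one_lt_card_iff_nontrivial.mp (by omega)
  refine ⟨fun N hN => ?_⟩
  by_cases h11N : 11 ∣ Nat.card N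
  swap
  · exact Or.inl (hsmall N hN h11N)
  right
  by_contra htop
  haveI := hN
  obtain ⟨P⟩ : Nonempty (Sylow 11 N) := inferInstance
  set P' : Subgroup G := (P : Subgroup N).map N.subtype with hP'
  have hPcard : Nat.card P = 11 := by
    obtain ⟨S, hS⟩ := (P.isPGroup'.map N.subtype).exists_le_sylow
    have h1 := Subgroup.card_le_of_le hS
    rw [hP11, Subgroup.card_map_of_injective N.subtype_injective] at h1
    exact le_antisymm h1 (Nat.le_of_dvd Nat.card_pos (P.dvd_card_of_dvd_card h11N))
  have hP'card : Nat.card P' = 11 := by rw [hP', Subgroup.card_map_of_injective N.subtype_injective, hPcard]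
  obtain ⟨S, hS⟩ := (IsPGroup.of_card (G := P') (n := 1) (p := 11) (by rw [hP'card, pow_one])).exists_le_sylow
  have hSeq : P' = (S : Subgroup G) := Subgroup.eq_of_le_of_card_ge hS (by rw [hP11, hP'card])
  have hfr : Subgroup.normalizer ((S : Subgroup G) : Set G) ⊔ N = ⊤ := by
    rw [← hSeq]; exact Sylow.normalizer_sup_eq_top P
  set NS := Subgroup.normalizer ((S : Subgroup G) : Set G)
  have hNScard : Nat.card NS = 55 := hN11 S
  have hNN : Nat.card (Subgroup.normalizer ((P : Subgroup N) : Set N)) = 11 := by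
    set M := (Subgroup.normalizer ((P : Subgroup N) : Set N)).map N.subtype
    have hMle : M ≤ NS := by
      rintro _ ⟨x, hx, rfl⟩
      rw [show NS = Subgroup.normalizer (P' : Set G) by rw [hSeq], Subgroup.mem_normalizer_iff]
      intro y
      constructor
      · rintro ⟨z, hz, rfl⟩
        exact ⟨x * z * x⁻¹, (Subgroup.mem_normalizer_iff.mp hx z).mp hz, by simp⟩
      · rintro ⟨z, hz, e⟩
        refine ⟨x⁻¹ * z * x, ?_, ?_⟩
        · have := (Subgroup.mem_normalizer_iff.mp (Subgroup.inv_mem _ hx) z).mp hz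
          rw [inv_inv] at this
          exact this
        · simp only [Subgroup.coe_subtype, Subgroup.coe_mul, Subgroup.coe_inv] at e ⊢
          rw [e]; group
    have h1 := Subgroup.card_dvd_of_le hMle
    rw [hNScard, Subgroup.card_map_of_injective N.subtype_injective] at h1
    have h2 : 11 ∣ Nat.card (Subgroup.normalizer ((P : Subgroup N) : Set N)) :=
      (dvd_of_eq hPcard.symm).trans (Subgroup.card_dvd_of_le Subgroup.le_normalizer)
    by_contra hne
    have h55 : Nat.card M = 55 := by
      rw [Subgroup.card_map_of_injective N.subtype_injective]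
      obtain ⟨a, ha⟩ := h2
      rw [ha] at h1 hne ⊢
      have : a ∣ 5 := Nat.dvd_of_mul_dvd_mul_left (by norm_num) (show 11 * a ∣ 11 * 5 by simpa using h1)
      rcases (Nat.dvd_prime h5.out).mp this with rfl | rfl
      · exact absurd rfl hne
      · rfl
    have heM : M = NS := Subgroup.eq_of_le_of_card_ge hMle (by rw [hNScard, h55])
    have : NS ≤ N := by rw [← heM]; exact Subgroup.map_subtype_le _
    rw [sup_eq_right.mpr this] at hfr
    exact htop hfr
  have hPZ : Subgroup.normalizer ((P : Subgroup N) : Set N) ≤ Subgroup.centralizer ((P : Subgroup N) : Set N) := by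
    rw [← Subgroup.eq_of_le_of_card_ge Subgroup.le_normalizer (by rw [hNN, hPcard])]
    haveI : IsCyclic (P : Subgroup N) := isCyclic_of_prime_card hPcard
    letI := IsCyclic.commGroup (α := (P : Subgroup N))
    intro x hx
    rw [Subgroup.mem_centralizer_iff]
    intro y hy
    exact congrArg Subtype.val (mul_comm (⟨y, hy⟩ : (P : Subgroup N)) ⟨x, hx⟩)
  set K := (MonoidHom.transferSylow P hPZ).ker with hK
  have hcompl := MonoidHom.ker_transferSylow_isComplement' P hPZ
  have hKcard : Nat.card K * 11 = Nat.card N := by rw [← hPcard]; exact hcompl.card_mul_card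
  have hN7920 : Nat.card N ∣ 7920 := hcard ▸ N.card_subgroup_dvd_card
  have hK11 : ¬ 11 ∣ Nat.card K := by
    rintro ⟨c, hc⟩
    have : 121 ∣ 7920 := (show 121 ∣ Nat.card N from ⟨c, by rw [← hKcard, hc]; ring⟩).trans hN7920
    omega
  have hKidx : K.index = 11 := hcompl.symm.index_eq_card.trans hPcard
  set K' := K.map N.subtype
  have hK'n : K'.Normal := by
    refine ⟨?_⟩
    rintro _ ⟨x, hx, rfl⟩ g
    refine ⟨⟨g * x * g⁻¹, hN.conj_mem x x.2 g⟩, ?_, rfl⟩
    change (⟨g * x * g⁻¹, hN.conj_mem x x.2 g⟩ : N) ∈ K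
    rw [← QuotientGroup.eq_one_iff]
    have h1 : orderOf (QuotientGroup.mk' K ⟨g * x * g⁻¹, hN.conj_mem x x.2 g⟩) ∣ Nat.card K := by
      refine (orderOf_map_dvd _ _).trans ?_
      refine dvd_trans (dvd_of_eq ?_) (Subgroup.orderOf_dvd_natCard _ hx)
      exact ((Subgroup.orderOf_coe _).symm.trans (MulEquiv.orderOf_eq (MulAut.conj g) (x : G))).trans (Subgroup.orderOf_coe x)
    have h2 : orderOf (QuotientGroup.mk' K ⟨g * x * g⁻¹, hN.conj_mem x x.2 g⟩) ∣ 11 :=
      (orderOf_dvd_natCard _).trans (dvd_of_eq hKidx)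
    exact orderOf_eq_one_iff.mp (Nat.eq_one_of_dvd_coprimes
      ((Nat.Prime.coprime_iff_not_dvd h11.out).mpr hK11).symm h1 h2)
  have hKbot : K' = ⊥ := hsmall K' hK'n (by rwa [Subgroup.card_map_of_injective N.subtype_injective])
  have hK1 : Nat.card K = 1 := by
    rw [← Subgroup.card_map_of_injective N.subtype_injective]
    change Nat.card K' = 1
    rw [hKbot, Subgroup.card_bot]
  -- `N` would be a normal Sylow subgroup
  rw [hK1, one_mul] at hKcard
  have hNS : (S : Subgroup G) = N := by
    refine Subgroup.eq_of_le_of_card_ge ?_ (by rw [hP11, ← hKcard])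
    rw [← hSeq]; exact Subgroup.map_subtype_le _
  haveI : (S : Subgroup G).Normal := by rw [hNS]; exact hN
  have h1 : 144 = (Subgroup.normalizer ((S : Subgroup G) : Set G)).index :=
    hn11.symm.trans S.card_eq_index_normalizer
  rw [(Subgroup.normalizer_eq_top_iff).mpr inferInstance, Subgroup.index_top] at h1
  omega

end Cfsg.Agent.NSE
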