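import Cfsg.Agent.Sharply.Degree
import Mathlib

/-!
The numbers of elements of each order in a sharply 4-transitive group of degree 11.
-/

set_option autoImplicit false
set_option linter.style.haveILetI false

namespace Cfsg.Agent.NSE

open MulAction Sharply

theorem card_centralizer_class {G : Type*} [Group G] [Finite G] {p e : ℕ} [hp : Fact p.Prime]
    (P : Sylow p G) (hP : Nat.card P = p)
    (hC : ∀ w : G, orderOf w = p → Nat.card (Subgroup.centralizer ({w} : Set G)) = p)
    (hN : Nat.card (Subgroup.normalizer ((P : Subgroup G) : Set G)) = p * e) : e ∣ p - 1 := by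
  have hpp := hp.out
  obtain ⟨⟨w, hwP⟩, hw⟩ := exists_prime_orderOf_dvd_card' (G := P) p (by rw [hP])
  have hwo : orderOf w = p := by rwa [← Subgroup.orderOf_mk w hwP]
  have hzw : Subgroup.zpowers w = (P : Subgroup G) :=
    Subgroup.eq_of_le_of_card_ge (Subgroup.zpowers_le.mpr hwP) (by rw [Nat.card_zpowers, hwo, hP])
  let f := Subgroup.normalizerMonoidHom (P : Subgroup G)
  have hker : Nat.card f.ker = p := by
    rw [Subgroup.normalizerMonoidHom_ker,
      Nat.card_congr (Subgroup.subgroupOfEquivOfLe (Subgroup.centralizer_le_normalizer _)).toEquiv,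
      ← hzw, Subgroup.zpowers_eq_closure, Subgroup.centralizer_closure]
    exact hC w hwo
  have h1 : Nat.card f.range = e := by
    have h := Subgroup.card_eq_card_quotient_mul_card_subgroup f.ker
    rw [Nat.card_congr (QuotientGroup.quotientKerEquivRange f).toEquiv, hker, hN, mul_comm] at h
    exact (Nat.eq_of_mul_eq_mul_right hpp.pos h).symm
  have h2 := f.range.card_subgroup_dvd_card
  haveI : IsCyclic (P : Subgroup G) := isCyclic_of_prime_card hP
  rw [IsCyclic.card_mulAut, hP, Nat.totient_prime hpp, h1] at h2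
  exact h2

theorem card_orderOf_prime {G : Type*} [Group G] [Finite G] {p : ℕ} [hp : Fact p.Prime]
    (hp2 : ∀ P : Sylow p G, Nat.card P = p) :
    Nat.card {g : G // orderOf g = p} = Nat.card (Sylow p G) * (p - 1) := by
  have hpp := hp.out
  let f : (Σ P : Sylow p G, {g : (P : Subgroup G) // g ≠ 1}) → {g : G // orderOf g = p} :=
    fun x => ⟨x.2.1.1, by
      refine orderOf_eq_prime ?_ (fun e => x.2.2 (Subtype.ext e))
      have := orderOf_dvd_natCard x.2.1
      rw [hp2] at this
      rw [← orderOf_dvd_iff_pow_eq_one, Subgroup.orderOf_coe]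
      exact this⟩
  have hf : Function.Bijective f := by
    constructor
    · rintro ⟨P, g, hg⟩ ⟨Q, k, hk⟩ e
      have e' : (g : G) = (k : G) := congrArg Subtype.val e
      have hgo : orderOf (g : G) = p := (f ⟨P, g, hg⟩).2
      have hPQ : P = Q := by
        refine Sylow.ext ?_
        rw [← Subgroup.eq_of_le_of_card_ge (Subgroup.zpowers_le.mpr g.2) (by rw [Nat.card_zpowers, hgo, hp2]),
          ← Subgroup.eq_of_le_of_card_ge (Subgroup.zpowers_le.mpr (e'.symm ▸ k.2 : (g : G) ∈ (Q : Subgroup G)))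
            (by rw [Nat.card_zpowers, hgo, hp2])]
      subst hPQ
      have h2 : g = k := Subtype.ext e'
      subst h2
      rfl
    · rintro ⟨g, hg⟩
      obtain ⟨P, hP⟩ := (IsPGroup.of_card (G := Subgroup.zpowers g) (n := 1) (p := p)
        (by rw [Nat.card_zpowers, hg, pow_one])).exists_le_sylow
      exact ⟨⟨P, ⟨g, hP (Subgroup.mem_zpowers g)⟩, fun e => hpp.one_lt.ne (by
        rw [← hg, show g = 1 from congrArg Subtype.val e, orderOf_one])⟩, rfl⟩
  haveI := Fintype.ofFinite (Sylow p G)
  rw [← Nat.card_eq_of_bijective f hf, Nat.card_sigma, Finset.sum_const_nat (m := p - 1), Finset.card_univ,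
    Nat.card_eq_fintype_card]
  intro P _
  classical
  haveI := Fintype.ofFinite (P : Subgroup G)
  rw [Nat.card_eq_fintype_card, Fintype.card_subtype_compl, Fintype.card_subtype_eq,
    ← Nat.card_eq_fintype_card, hp2]

variable {G α : Type*} [Group G] [Finite G] [MulAction G α] [Fintype α] [DecidableEq α]

/-- The quadruples of distinct points. -/
abbrev Quad (α : Type*) := {x : α × α × α × α // Distinct4 x.1 x.2.1 x.2.2.1 x.2.2.2}

/-- Data: sharply 4-transitive of degree 11, simple of order 7920. -/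
structure Eleven (G α : Type*) [Group G] [MulAction G α] [Fintype α] : Prop where
  sharp : IsSharpFour G α
  deg : Fintype.card α = 11
  card : Nat.card G = 7920
  simple : IsSimpleGroup G

variable (h : Eleven G α)
include h

theorem Eleven.faithful {g k : G} (e : ∀ a : α, g • a = k • a) : g = k := by
  obtain ⟨s, -, hs⟩ := Finset.exists_subset_card_eq (s := (Finset.univ : Finset α)) (n := 4)
    (by rw [Finset.card_univ, h.deg]; norm_num)
  obtain ⟨a, b, c, d, h1, h2, h3, h4, h5, h6, -⟩ := Finset.card_eq_four.mp hs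
  exact h.sharp.ext4 ⟨h1, h2, h3, h4, h5, h6⟩ (e a) (e b) (e c) (e d)

theorem Eleven.card_quad : Nat.card (Quad α) = 7920 := by
  obtain ⟨s, -, hs⟩ := Finset.exists_subset_card_eq (s := (Finset.univ : Finset α)) (n := 4)
    (by rw [Finset.card_univ, h.deg]; norm_num)
  obtain ⟨a, b, c, d, h1, h2, h3, h4, h5, h6, -⟩ := Finset.card_eq_four.mp hs
  have hd : Distinct4 a b c d := ⟨h1, h2, h3, h4, h5, h6⟩
  let f : G → Quad α := fun g => ⟨(g • a, g • b, g • c, g • d),
    (MulAction.injective g).ne h1, (MulAction.injective g).ne h2, (MulAction.injective g).ne h3,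
    (MulAction.injective g).ne h4, (MulAction.injective g).ne h5, (MulAction.injective g).ne h6⟩
  have hf : Function.Bijective f := by
    refine ⟨fun g k e => ?_, fun x => ?_⟩
    · have := congrArg Subtype.val e
      simp only [f, Prod.mk.injEq] at this
      exact h.sharp.ext4 hd this.1 this.2.1 this.2.2.1 this.2.2.2
    · obtain ⟨g, e1, e2, e3, e4⟩ := h.sharp.trans a b c d _ _ _ _ hd x.2
      exact ⟨g, Subtype.ext (by simp only [f, e1, e2, e3, e4])⟩
  rw [← Nat.card_eq_of_bijective f hf, h.card]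

theorem Eleven.count (n k : ℕ) (P : G → Quad α → Prop) (hu : ∀ x, ∃! g, P g x)
    (hn : ∀ g x, P g x → orderOf g = n)
    (hk : ∀ g, orderOf g = n → Nat.card {x // P g x} = k) :
    Nat.card {g : G // orderOf g = n} * k = 7920 := by
  haveI : Fintype {g : G // orderOf g = n} := Fintype.ofFinite _
  have e : (Σ g : {g : G // orderOf g = n}, {x // P g x}) ≃ Quad α :=
    Equiv.ofBijective (fun y => y.2.1) ⟨by
      rintro ⟨⟨g, hg⟩, x, hx⟩ ⟨⟨g', hg'⟩, x', hx'⟩ (e : x = x')
      subst e
      obtain rfl := (hu x).unique hx hx'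
      rfl, fun x => by
      obtain ⟨g, hg, -⟩ := hu x
      exact ⟨⟨⟨g, hn g x hg⟩, x, hg⟩, rfl⟩⟩
  rw [← h.card_quad, ← Nat.card_congr e, Nat.card_sigma,
    Finset.sum_const_nat (fun g _ => hk g.1 g.2), Finset.card_univ, Nat.card_eq_fintype_card]

theorem Eleven.fix_mod {p : ℕ} [Fact p.Prime] {g : G} (hg : g ^ p = 1) :
    (fixSet g : Finset α).card % p = 11 % p := by
  have hσ : (toPermHom G α g) ^ p ^ 1 = 1 := by rw [pow_one, ← map_pow, hg, map_one]
  have h1 := Equiv.Perm.card_compl_support_modEq (p := p) (n := 1) hσ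
  have h2 : (fixSet g : Finset α) = (toPermHom G α g).supportᶜ := by
    ext a; simp [mem_fixSet]
  rw [h2, h1, h.deg]

theorem Eleven.fix_invol {g : G} (hg : orderOf g = 2) : (fixSet g : Finset α).card = 3 := by
  have hne : g ≠ 1 := fun e => by simp [e] at hg
  have h2 : g ^ 2 = 1 := hg ▸ pow_orderOf_eq_one g
  haveI : Fact (Nat.Prime 2) := ⟨Nat.prime_two⟩
  have hle := h.sharp.card_fixSet_le hne
  have hmod := h.fix_mod (p := 2) h2
  by_contra h3
  have h1 : (fixSet g : Finset α).card = 1 := by omega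
  have hσ2 : (toPermHom G α g) ^ 2 = 1 := by rw [← map_pow, h2, map_one]
  have hsupp : (toPermHom G α g).support.card = 10 := by
    have e : (fixSet g : Finset α) = (toPermHom G α g).supportᶜ := by ext a; simp [mem_fixSet]
    rw [e, Finset.card_compl, h.deg] at h1
    have := Finset.card_le_univ (toPermHom G α g).support
    rw [h.deg] at this
    omega
  have hct : (toPermHom G α g).cycleType = Multiset.replicate 5 2 := by
    have hall : ∀ n ∈ (toPermHom G α g).cycleType, n = 2 := fun n hn => by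
      have a1 := (Equiv.Perm.dvd_of_mem_cycleType hn).trans (orderOf_dvd_of_pow_eq_one hσ2)
      have a2 := Equiv.Perm.two_le_of_mem_cycleType hn
      have := Nat.le_of_dvd (by norm_num) a1
      omega
    have h1 := Multiset.eq_replicate_card.mpr hall
    have h2 := Equiv.Perm.sum_cycleType (toPermHom G α g)
    rw [h1, Multiset.sum_replicate, smul_eq_mul, hsupp] at h2
    rw [h1, show (toPermHom G α g).cycleType.card = 5 by omega]
  have hsign : Equiv.Perm.sign (toPermHom G α g) = -1 := by
    rw [Equiv.Perm.sign_of_cycleType, hct]; decide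
  haveI := h.simple
  let s := (Equiv.Perm.sign : Equiv.Perm α →* ℤˣ).comp (toPermHom G α)
  rcases s.normal_ker.eq_bot_or_eq_top with hb | ht
  · have := Nat.card_le_card_of_injective s ((MonoidHom.ker_eq_bot_iff s).mp hb)
    rw [h.card, Nat.card_eq_fintype_card, Fintype.card_units_int] at this
    omega
  · have : s g = 1 := MonoidHom.mem_ker.mp (ht ▸ Subgroup.mem_top g)
    rw [MonoidHom.comp_apply, hsign] at this
    exact absurd this (by decide)

theorem Eleven.fix_three {g : G} (hg : orderOf g = 3) : (fixSet g : Finset α).card = 2 := by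
  have hne : g ≠ 1 := fun e => by simp [e] at hg
  haveI : Fact (Nat.Prime 3) := ⟨Nat.prime_three⟩
  have hle := h.sharp.card_fixSet_le hne
  have hmod := h.fix_mod (p := 3) (hg ▸ pow_orderOf_eq_one g : g ^ 3 = 1)
  omega

omit h in
theorem card_moved_sub (g : G) :
    Nat.card {a : α // g • a ≠ a} = Fintype.card α - (fixSet g : Finset α).card := by
  rw [Nat.card_eq_fintype_card, Fintype.card_subtype_compl, Fintype.card_subtype]
  rfl

theorem Eleven.count_two : Nat.card {g : G // orderOf g = 2} = 165 := by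
  have hcnt := h.count 2 48
    (fun g x => g • x.1.1 = x.1.2.1 ∧ g • x.1.2.1 = x.1.1 ∧ g • x.1.2.2.1 = x.1.2.2.1 ∧ g • x.1.2.2.2 = x.1.2.2.2)
    (fun ⟨⟨a, b, c, d⟩, hd⟩ => by
      obtain ⟨g, h1, h2, h3, h4⟩ := h.sharp.trans a b c d b a c d hd
        ⟨hd.1.symm, hd.2.2.2.1, hd.2.2.2.2.1, hd.2.1, hd.2.2.1, hd.2.2.2.2.2⟩
      exact ⟨g, ⟨h1, h2, h3, h4⟩, fun k ⟨e1, e2, e3, e4⟩ => h.sharp.ext4 hd
        (e1.trans h1.symm) (e2.trans h2.symm) (e3.trans h3.symm) (e4.trans h4.symm)⟩)
    (fun g ⟨⟨a, b, c, d⟩, hd⟩ ⟨e1, e2, e3, e4⟩ => by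
      simp only at e1 e2 e3 e4
      refine orderOf_eq_prime (h.sharp.key _ a b c d hd ?_ ?_ ?_ ?_) (fun e => hd.1 (by rw [← e1, e, one_smul]))
      all_goals simp [sq, mul_smul, e1, e2, e3, e4])
    (fun g hg => by
      have hf := h.fix_invol hg
      have hgg : ∀ a : α, g • g • a = a := fun a => by
        rw [← mul_smul, ← sq, ← hg, pow_orderOf_eq_one, one_smul]
      let F := (fixSet g : Finset α)
      rw [Nat.card_congr (β := {a : α // g • a ≠ a} × {p : α × α // p ∈ F.offDiag})
        { toFun := fun x => (⟨x.1.1.1, by rw [x.2.1]; exact x.1.2.1.symm⟩,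
            ⟨(x.1.1.2.2.1, x.1.1.2.2.2), Finset.mem_offDiag.mpr
              ⟨mem_fixSet.mpr x.2.2.2.1, mem_fixSet.mpr x.2.2.2.2, x.1.2.2.2.2.2.2⟩⟩)
          invFun := fun y => ⟨⟨(y.1.1, g • y.1.1, y.2.1.1, y.2.1.2), by
            obtain ⟨⟨a, ha⟩, ⟨c, d⟩, hcd⟩ := y
            obtain ⟨hc, hd, hne⟩ := Finset.mem_offDiag.mp hcd
            have hc' : g • c = c := mem_fixSet.mp hc
            have hd' : g • d = d := mem_fixSet.mp hd
            exact ⟨Ne.symm ha, fun (e : a = c) => ha (by rw [e]; exact hc'), fun (e : a = d) => ha (by rw [e]; exact hd'),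
              fun e => ha (MulAction.injective g (show g • g • a = g • a from (congrArg (g • ·) e).trans (hc'.trans e.symm))),
              fun e => ha (MulAction.injective g (show g • g • a = g • a from (congrArg (g • ·) e).trans (hd'.trans e.symm))),
              hne⟩⟩, rfl, hgg _, mem_fixSet.mp (Finset.mem_offDiag.mp y.2.2).1,
              mem_fixSet.mp (Finset.mem_offDiag.mp y.2.2).2.1⟩
          left_inv := fun ⟨⟨⟨a, b, c, d⟩, hd⟩, e1, _⟩ => by
            simp only at e1; subst e1; rfl
          right_inv := fun _ => rfl }, Nat.card_prod, card_moved_sub, h.deg, hf, Nat.card_eq_finsetCard,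
        Finset.offDiag_card, hf])
  omega

theorem Eleven.count_three : Nat.card {g : G // orderOf g = 3} = 440 := by
  have hcnt := h.count 3 18
    (fun g x => g • x.1.1 = x.1.2.1 ∧ g • x.1.2.1 = x.1.2.2.1 ∧ g • x.1.2.2.1 = x.1.1 ∧ g • x.1.2.2.2 = x.1.2.2.2)
    (fun ⟨⟨a, b, c, d⟩, hd⟩ => by
      obtain ⟨g, h1, h2, h3, h4⟩ := h.sharp.trans a b c d b c a d hd
        ⟨hd.2.2.2.1, hd.1.symm, hd.2.2.2.2.1, hd.2.1.symm, hd.2.2.2.2.2, hd.2.2.1⟩
      exact ⟨g, ⟨h1, h2, h3, h4⟩, fun k ⟨e1, e2, e3, e4⟩ => h.sharp.ext4 hd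
        (e1.trans h1.symm) (e2.trans h2.symm) (e3.trans h3.symm) (e4.trans h4.symm)⟩)
    (fun g ⟨⟨a, b, c, d⟩, hd⟩ ⟨e1, e2, e3, e4⟩ => by
      simp only at e1 e2 e3 e4
      haveI : Fact (Nat.Prime 3) := ⟨Nat.prime_three⟩
      refine orderOf_eq_prime (h.sharp.key _ a b c d hd ?_ ?_ ?_ ?_) (fun e => hd.1 (by rw [← e1, e, one_smul]))
      all_goals simp [pow_succ, mul_smul, e1, e2, e3, e4])
    (fun g hg => by
      have hf := h.fix_three hg
      have h3 : ∀ a : α, g • g • g • a = a := fun a => by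
        rw [← mul_smul, ← mul_smul, show g * g * g = g ^ orderOf g by rw [hg, pow_succ, sq],
          pow_orderOf_eq_one, one_smul]
      rw [Nat.card_congr (β := {a : α // g • a ≠ a} × {d : α // d ∈ (fixSet g : Finset α)})
        { toFun := fun x => (⟨x.1.1.1, by rw [x.2.1]; exact x.1.2.1.symm⟩,
            ⟨x.1.1.2.2.2, mem_fixSet.mpr x.2.2.2.2⟩)
          invFun := fun y => ⟨⟨(y.1.1, g • y.1.1, g • g • y.1.1, y.2.1), by
            obtain ⟨⟨a, ha⟩, d, hd⟩ := y
            have hd' : g • d = d := mem_fixSet.mp hd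
            refine ⟨Ne.symm ha, fun e => ?_, fun (e : a = d) => ha (by rw [e]; exact hd'),
              fun e => ha (MulAction.injective g e.symm),
              fun e => ha (MulAction.injective g (show g • g • a = g • a from (congrArg (g • ·) e).trans (hd'.trans e.symm))),
              fun e => ha ?_⟩
            · exact ha (((congrArg (g • ·) e)).trans (h3 a))
            · have h1 : g • g • g • a = g • d := congrArg (g • ·) e
              rw [h3, hd'] at h1
              rw [h1]; exact hd'⟩,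
            rfl, rfl, h3 _, mem_fixSet.mp y.2.2⟩
          left_inv := fun ⟨⟨⟨a, b, c, d⟩, hd⟩, e1, e2, _⟩ => by
            simp only at e1 e2; subst e1; subst e2; rfl
          right_inv := fun _ => rfl }, Nat.card_prod, card_moved_sub, h.deg, hf, Nat.card_eq_finsetCard, hf])
  omega

theorem Eleven.count_four : Nat.card {g : G // orderOf g = 4} = 990 := by
  have hcnt := h.count 4 8
    (fun g x => g • x.1.1 = x.1.2.1 ∧ g • x.1.2.1 = x.1.2.2.1 ∧ g • x.1.2.2.1 = x.1.2.2.2 ∧ g • x.1.2.2.2 = x.1.1)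
    (fun ⟨⟨a, b, c, d⟩, hd⟩ => by
      obtain ⟨g, h1, h2, h3, h4⟩ := h.sharp.trans a b c d b c d a hd
        ⟨hd.2.2.2.1, hd.2.2.2.2.1, hd.1.symm, hd.2.2.2.2.2, hd.2.1.symm, hd.2.2.1.symm⟩
      exact ⟨g, ⟨h1, h2, h3, h4⟩, fun k ⟨e1, e2, e3, e4⟩ => h.sharp.ext4 hd
        (e1.trans h1.symm) (e2.trans h2.symm) (e3.trans h3.symm) (e4.trans h4.symm)⟩)
    (fun g ⟨⟨a, b, c, d⟩, hd⟩ ⟨e1, e2, e3, e4⟩ => by
      simp only at e1 e2 e3 e4
      haveI : Fact (Nat.Prime 2) := ⟨Nat.prime_two⟩
      refine orderOf_eq_prime_pow (p := 2) (n := 1) ?_ (h.sharp.key _ a b c d hd ?_ ?_ ?_ ?_)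
      · intro e
        apply hd.2.1
        have := congrArg (· • a) e
        simp [pow_succ, mul_smul, e1, e2] at this
        exact this.symm
      all_goals simp [pow_succ, mul_smul, e1, e2, e3, e4])
    (fun g hg => by
      have hg2 : orderOf (g ^ 2) = 2 := by rw [orderOf_pow' _ (by norm_num), hg]; rfl
      have hf := h.fix_invol hg2
      have h4 : ∀ a : α, g • g • g • g • a = a := fun a => by
        rw [← mul_smul, ← mul_smul, ← mul_smul, show g * g * g * g = g ^ orderOf g by rw [hg, pow_succ, pow_succ, sq],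
          pow_orderOf_eq_one, one_smul]
      rw [Nat.card_congr (β := {a : α // g ^ 2 • a ≠ a})
        { toFun := fun x => ⟨x.1.1.1, by
            rw [sq, mul_smul, x.2.1, x.2.2.1]; exact x.1.2.2.1.symm⟩
          invFun := fun y => ⟨⟨(y.1, g • y.1, g • g • y.1, g • g • g • y.1), by
            obtain ⟨a, ha⟩ := y
            rw [sq, mul_smul] at ha
            have h1 : g • a ≠ a := fun e => ha (by rw [e, e])
            have h3 : g • g • g • a ≠ a := fun e => h1 (by rw [← e, h4, e])
            exact ⟨Ne.symm h1, Ne.symm ha, Ne.symm h3, (MulAction.injective g).ne (Ne.symm h1),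
              (MulAction.injective g).ne (Ne.symm ha),
              (MulAction.injective g).ne ((MulAction.injective g).ne (Ne.symm h1))⟩⟩,
            rfl, rfl, rfl, h4 _⟩
          left_inv := fun ⟨⟨⟨a, b, c, d⟩, hd⟩, e1, e2, e3, _⟩ => by
            simp only at e1 e2 e3; subst e1; subst e2; subst e3; rfl
          right_inv := fun _ => rfl }, card_moved_sub, h.deg, hf])
  omega

theorem Eleven.centralizer_card_eleven {w : G} (hw : orderOf w = 11) :
    Nat.card (Subgroup.centralizer ({w} : Set G)) = 11 := by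
  have hne : w ≠ 1 := fun e => by simp [e] at hw
  haveI : Fact (Nat.Prime 11) := ⟨by norm_num⟩
  obtain ⟨a, ha⟩ : ∃ a : α, w • a ≠ a := by
    by_contra hall
    push Not at hall
    exact hne (h.faithful fun a => by rw [hall a, one_smul])
  have hper : ∀ k, 0 < k → k < 11 → w ^ k • a ≠ a := fun k h1 h2 e => by
    have hd : Function.minimalPeriod (w • ·) a ∣ k := MulAction.pow_smul_eq_iff_minimalPeriod_dvd.mp e
    have hd' : Function.minimalPeriod (w • ·) a ∣ 11 :=
      MulAction.pow_smul_eq_iff_minimalPeriod_dvd.mp (by rw [← hw, pow_orderOf_eq_one, one_smul])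
    rcases (Nat.dvd_prime (by norm_num : Nat.Prime 11)).mp hd' with e1 | e1
    · exact ha (by
        have := MulAction.pow_smul_eq_iff_minimalPeriod_dvd (a := w) (b := a) (n := 1) |>.mpr (by rw [e1])
        rwa [pow_one] at this)
    · exact absurd (Nat.le_of_dvd h1 (e1 ▸ hd)) (by omega)
  have hinj : Function.Injective fun g : Subgroup.centralizer ({w} : Set G) => (g : G) • a := by
    rintro ⟨g, hg⟩ ⟨g', hg'⟩ (e : g • a = g' • a)
    have hc : ∀ k : ℕ, g • w ^ k • a = g' • w ^ k • a := fun k => by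
      rw [← mul_smul, ← mul_smul, ((show Commute g w from Subgroup.mem_centralizer_singleton_iff.mp hg).pow_right k).eq,
        ((show Commute g' w from Subgroup.mem_centralizer_singleton_iff.mp hg').pow_right k).eq, mul_smul, mul_smul, e]
    refine Subtype.ext (h.sharp.ext4 (a := a) (b := w • a) (c := w ^ 2 • a) (d := w ^ 3 • a) ?_ e ?_ (hc 2) (hc 3))
    · have h2 : w ^ 2 • a = w • w • a := by rw [sq, mul_smul]
      have h3 : w ^ 3 • a = w • w ^ 2 • a := by rw [pow_succ', mul_smul]
      refine ⟨Ne.symm ha, Ne.symm (hper 2 (by norm_num) (by norm_num)), Ne.symm (hper 3 (by norm_num) (by norm_num)),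
        h2 ▸ (MulAction.injective w).ne (Ne.symm ha), ?_, ?_⟩
      · rw [h3]; exact (MulAction.injective w).ne (Ne.symm (hper 2 (by norm_num) (by norm_num)))
      · rw [h3, h2]
        exact (MulAction.injective w).ne ((MulAction.injective w).ne (Ne.symm ha))
    · simpa using hc 1
  refine le_antisymm ?_ ?_
  · have := Nat.card_le_card_of_injective _ hinj
    rwa [Nat.card_eq_fintype_card (α := α), h.deg] at this
  · rw [← hw, ← Nat.card_zpowers]
    exact Nat.card_le_card_of_injective (Subgroup.inclusion (Subgroup.zpowers_le.mpr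
      (Subgroup.mem_centralizer_singleton_iff.mpr rfl))) (Subgroup.inclusion_injective _)

theorem Eleven.centralizer_card_five {w : G} (hw : orderOf w = 5) :
    Nat.card (Subgroup.centralizer ({w} : Set G)) = 5 := by
  have hne : w ≠ 1 := fun e => by simp [e] at hw
  haveI : Fact (Nat.Prime 5) := ⟨by norm_num⟩
  have hle := h.sharp.card_fixSet_le hne
  have hmod := h.fix_mod (p := 5) (hw ▸ pow_orderOf_eq_one w : w ^ 5 = 1)
  have hf : (fixSet w : Finset α).card = 1 := by omega
  obtain ⟨f, hfs⟩ := Finset.card_eq_one.mp hf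
  have hfw : w • f = f := mem_fixSet.mp (hfs ▸ Finset.mem_singleton_self f)
  have huniq : ∀ x : α, w • x = x → x = f := fun x hx => by
    rw [← Finset.mem_singleton, ← hfs]; exact mem_fixSet.mpr hx
  set C := Subgroup.centralizer ({w} : Set G)
  have hcomm : ∀ g ∈ C, Commute g w := fun g hg => Subgroup.mem_centralizer_singleton_iff.mp hg
  have hfixf : ∀ g ∈ C, g • f = f := fun g hg => huniq _ (by
    rw [← mul_smul, ← (hcomm g hg).eq, mul_smul, hfw])
  have hper : ∀ a : α, a ≠ f → ∀ k, 0 < k → k < 5 → w ^ k • a ≠ a := fun a ha k h1 h2 e => by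
    have hd : Function.minimalPeriod (w • ·) a ∣ k := MulAction.pow_smul_eq_iff_minimalPeriod_dvd.mp e
    have hd' : Function.minimalPeriod (w • ·) a ∣ 5 :=
      MulAction.pow_smul_eq_iff_minimalPeriod_dvd.mp (by rw [← hw, pow_orderOf_eq_one, one_smul])
    rcases (Nat.dvd_prime (by norm_num : Nat.Prime 5)).mp hd' with e1 | e1
    · refine ha (huniq a ?_)
      have := MulAction.pow_smul_eq_iff_minimalPeriod_dvd (a := w) (b := a) (n := 1) |>.mpr (by rw [e1])
      rwa [pow_one] at this
    · exact absurd (Nat.le_of_dvd h1 (e1 ▸ hd)) (by omega)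
  have hfree : ∀ g ∈ C, ∀ a : α, a ≠ f → g • a = a → g = 1 := by
    intro g hg a ha hga
    have hc : ∀ k : ℕ, g • w ^ k • a = w ^ k • a := fun k => by
      rw [← mul_smul, ((hcomm g hg).pow_right k).eq, mul_smul, hga]
    have h1 : w • a ≠ a := by simpa using hper a ha 1 (by norm_num) (by norm_num)
    refine h.sharp.key g f a (w • a) (w ^ 2 • a) ?_ (hfixf g hg) hga (by simpa using hc 1) (hc 2)
    refine ⟨Ne.symm ha, fun e => ha (MulAction.injective w (e.symm.trans hfw.symm)),
      fun e => ha (MulAction.injective (w ^ 2) (e.symm.trans (show f = w ^ 2 • f by rw [sq, mul_smul, hfw, hfw]))),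
      Ne.symm h1, Ne.symm (hper a ha 2 (by norm_num) (by norm_num)),
      fun e => h1 (MulAction.injective w (by rw [sq, mul_smul] at e; exact e.symm))⟩
  obtain ⟨a₀, ha₀⟩ : ∃ a : α, a ≠ f := Fintype.exists_ne_of_one_lt_card (by rw [h.deg]; norm_num) f
  have hle10 : Nat.card C ≤ 10 := by
    have hinj : Function.Injective fun g : C =>
        (⟨(g : G) • a₀, fun e => ha₀ (MulAction.injective (g : G) (e.trans (hfixf _ g.2).symm))⟩ : {x : α // x ≠ f}) := by
      rintro g g' e
      have e' : (g : G) • a₀ = (g' : G) • a₀ := congrArg Subtype.val e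
      have := hfree _ (C.mul_mem (C.inv_mem g'.2) g.2) a₀ ha₀ (by rw [mul_smul, e', inv_smul_smul])
      exact Subtype.ext (inv_mul_eq_one.mp this).symm
    have := Nat.card_le_card_of_injective _ hinj
    rwa [Nat.card_eq_fintype_card (α := {x : α // x ≠ f}), Fintype.card_subtype_compl,
      Fintype.card_subtype_eq, h.deg] at this
  have hdvd : 5 ∣ Nat.card C :=
    hw ▸ Subgroup.orderOf_dvd_natCard C (Subgroup.mem_centralizer_singleton_iff.mpr rfl)
  have hodd : ¬ 2 ∣ Nat.card C := by
    intro h2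
    haveI : Fact (Nat.Prime 2) := ⟨Nat.prime_two⟩
    obtain ⟨⟨t, ht⟩, hto⟩ := exists_prime_orderOf_dvd_card' (G := C) 2 h2
    rw [Subgroup.orderOf_mk] at hto
    have h3 := h.fix_invol hto
    obtain ⟨x, hx, hxf⟩ := Finset.exists_mem_ne (s := (fixSet t : Finset α)) (by omega) f
    have := hfree t ht x hxf (mem_fixSet.mp hx)
    simp [this] at hto
  have hpos : 0 < Nat.card C := Nat.card_pos
  obtain ⟨m, hm⟩ := hdvd
  omega

theorem Eleven.three_invol {w : G} (hw : orderOf w = 3) :
    (∀ t : G, orderOf t = 2 → Commute t w →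
      (∀ d : α, w • d = d → t • d ≠ d) ∧ ∀ a : α, t • a = a → w • a ≠ a) ∧
    ∀ a : α, w • a ≠ a → ∃! t : G, orderOf t = 2 ∧ Commute t w ∧ t • a = a := by
  have hf := h.fix_three hw
  obtain ⟨d, e, hde, hF⟩ := Finset.card_eq_two.mp hf
  have hmem : ∀ x : α, w • x = x ↔ x = d ∨ x = e := fun x => by
    rw [← mem_fixSet (g := w), hF]; simp
  have hd : w • d = d := (hmem d).mpr (Or.inl rfl)
  have he : w • e = e := (hmem e).mpr (Or.inr rfl)
  have h3 : ∀ a : α, w • w • w • a = a := fun a => by
    rw [← mul_smul, ← mul_smul, show w * w * w = w ^ orderOf w by rw [hw, pow_succ, sq],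
      pow_orderOf_eq_one, one_smul]
  have hdist : ∀ a : α, w • a ≠ a → ∀ x, w • x = x → Distinct4 a (w • a) (w • w • a) x := by
    intro a ha x hx
    refine ⟨Ne.symm ha, fun e => ha ((congrArg (w • ·) e).trans (h3 a)),
      fun e => ha (by subst e; exact hx), fun e => ha (MulAction.injective w e.symm),
      fun e => ha (MulAction.injective w ((congrArg (w • ·) e).trans (hx.trans e.symm))), fun e => ha ?_⟩
    have h1 : w • w • w • a = w • x := congrArg (w • ·) e
    rw [h3, hx] at h1
    subst h1; exact hx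
  have part1 : ∀ t : G, orderOf t = 2 → Commute t w →
      (∀ d : α, w • d = d → t • d ≠ d) ∧ ∀ a : α, t • a = a → w • a ≠ a := by
    intro t ht htw
    have ht3 := h.fix_invol ht
    have hperm : ∀ x : α, w • x = x → w • t • x = t • x := fun x hx => by
      rw [← mul_smul, ← htw.eq, mul_smul, hx]
    have hno : ∀ x : α, w • x = x → t • x ≠ x := by
      intro x hx htx
      have hboth : t • d = d ∧ t • e = e := by
        rcases (hmem _).mp (hperm d hd) with h1 | h1 <;> rcases (hmem _).mp (hperm e he) with h2 | h2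
        · exact absurd (MulAction.injective t (h1.trans h2.symm)) hde
        · exact ⟨h1, h2⟩
        · rcases (hmem x).mp hx with rfl | rfl
          · exact absurd (h1.symm.trans htx) hde.symm
          · exact absurd (h2.symm.trans htx) hde
        · exact absurd (MulAction.injective t (h1.trans h2.symm)) hde
      obtain ⟨f, hf1, hf2⟩ : ∃ f, f ∈ (fixSet t : Finset α) ∧ f ∉ (fixSet w : Finset α) :=
        Finset.exists_mem_notMem_of_card_lt_card (by omega)
      have hwf : w • f ≠ f := fun e' => hf2 (mem_fixSet.mpr e')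
      have htf : t • f = f := mem_fixSet.mp hf1
      have hc : ∀ y : α, t • y = y → t • w • y = w • y := fun y hy => by
        rw [← mul_smul, htw.eq, mul_smul, hy]
      have := h.sharp.key t f (w • f) (w • w • f) d (hdist f hwf d hd) htf (hc _ htf) (hc _ (hc _ htf)) hboth.1
      simp [this] at ht
    exact ⟨hno, fun a hta hwa => hno a hwa hta⟩
  refine ⟨part1, fun a ha => ?_⟩
  obtain ⟨t, t1, t2, t3, t4⟩ := h.sharp.trans a (w • a) (w • w • a) d a (w • a) (w • w • a) e
    (hdist a ha d hd) (hdist a ha e he)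
  have htw : Commute t w := by
    refine h.sharp.ext4 (hdist a ha d hd) ?_ ?_ ?_ ?_
    · simp only [mul_smul, t1, t2]
    · simp only [mul_smul, t2, t3]
    · simp only [mul_smul, h3 a, t1, t3]
    · simp only [mul_smul, hd, t4, he]
  have hte : t • e = d := by
    have h1 : w • t • e = t • e := by rw [← mul_smul, ← htw.eq, mul_smul, he]
    exact ((hmem _).mp h1).resolve_right fun h2 => hde (MulAction.injective t (t4.trans h2.symm))
  have ht2 : orderOf t = 2 := by
    refine orderOf_eq_prime (h.sharp.key _ a (w • a) (w • w • a) d (hdist a ha d hd) ?_ ?_ ?_ ?_)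
      (fun e1 => hde (by rw [← t4, e1, one_smul]))
    all_goals simp [sq, mul_smul, t1, t2, t3, t4, hte]
  refine ⟨t, ⟨ht2, htw, t1⟩, ?_⟩
  rintro s ⟨hs2, hsw, hsa⟩
  have hc : ∀ y : α, s • y = y → s • w • y = w • y := fun y hy => by
    rw [← mul_smul, hsw.eq, mul_smul, hy]
  have hsd : s • d = e := by
    have h1 : w • s • d = s • d := by rw [← mul_smul, ← hsw.eq, mul_smul, hd]
    exact ((hmem _).mp h1).resolve_left ((part1 s hs2 hsw).1 d hd)
  exact h.sharp.ext4 (hdist a ha d hd) (hsa.trans t1.symm) ((hc _ hsa).trans t2.symm)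
    ((hc _ (hc _ hsa)).trans t3.symm) (hsd.trans t4.symm)

theorem Eleven.count_six : Nat.card {g : G // orderOf g = 6} = 1320 := by
  have hfib : ∀ w : {w : G // orderOf w = 3}, Nat.card {t : G // orderOf t = 2 ∧ Commute t w.1} = 3 := by
    rintro ⟨w, hw⟩
    obtain ⟨h1, h2⟩ := h.three_invol hw
    haveI : Fintype {t : G // orderOf t = 2 ∧ Commute t w} := Fintype.ofFinite _
    have e : (Σ t : {t : G // orderOf t = 2 ∧ Commute t w}, {a : α // a ∈ (fixSet t.1 : Finset α)}) ≃
        {a : α // w • a ≠ a} :=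
      Equiv.ofBijective (fun y => ⟨y.2.1, (h1 y.1.1 y.1.2.1 y.1.2.2).2 _ (mem_fixSet.mp y.2.2)⟩) ⟨by
        rintro ⟨⟨t, ht, htw⟩, a, ha⟩ ⟨⟨t', ht', htw'⟩, a', ha'⟩ e
        have e' : a = a' := congrArg Subtype.val e
        subst e'
        have hwa : w • a ≠ a := (h1 t ht htw).2 _ (mem_fixSet.mp ha)
        obtain rfl : t = t' := (h2 a hwa).unique ⟨ht, htw, mem_fixSet.mp ha⟩ ⟨ht', htw', mem_fixSet.mp ha'⟩
        rfl, fun ⟨a, ha⟩ => by
        obtain ⟨t, ⟨ht, htw, hta⟩, -⟩ := h2 a ha
        exact ⟨⟨⟨t, ht, htw⟩, a, mem_fixSet.mpr hta⟩, rfl⟩⟩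
    have h9 : Nat.card {a : α // w • a ≠ a} = 9 := by rw [card_moved_sub, h.deg, h.fix_three hw]
    rw [← Nat.card_congr e, Nat.card_sigma, Finset.sum_const_nat (m := 3)
      (fun t _ => (Nat.card_eq_finsetCard _).trans (h.fix_invol t.2.1)), Finset.card_univ] at h9
    change Nat.card {t : G // orderOf t = 2 ∧ Commute t w} = 3
    rw [Nat.card_eq_fintype_card]
    omega
  haveI : Fintype {w : G // orderOf w = 3} := Fintype.ofFinite _
  have e : {g : G // orderOf g = 6} ≃ Σ w : {w : G // orderOf w = 3}, {t : G // orderOf t = 2 ∧ Commute t w.1} :=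
    { toFun := fun g => ⟨⟨g.1 ^ 4, by rw [orderOf_pow' _ (by norm_num), g.2]; rfl⟩,
        ⟨g.1 ^ 3, by rw [orderOf_pow' _ (by norm_num), g.2]; rfl, Commute.pow_pow_self g.1 3 4⟩⟩
      invFun := fun y => ⟨y.2.1 * y.1.1, by
        rw [y.2.2.2.orderOf_mul_eq_mul_orderOf_of_coprime (by rw [y.2.2.1, y.1.2]; decide), y.2.2.1, y.1.2]⟩
      left_inv := fun g => Subtype.ext (by
        change g.1 ^ 3 * g.1 ^ 4 = g.1
        rw [← pow_add, show 3 + 4 = orderOf g.1 + 1 by rw [g.2], pow_succ, pow_orderOf_eq_one, one_mul])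
      right_inv := fun ⟨⟨w, hw⟩, t, ht, htw⟩ => by
        have h2 : t ^ 2 = 1 := ht ▸ pow_orderOf_eq_one t
        have h3 : w ^ 3 = 1 := hw ▸ pow_orderOf_eq_one w
        have e4 : (t * w) ^ 4 = w := by
          rw [htw.mul_pow, show (4 : ℕ) = 2 * 2 by rfl, pow_mul, h2, one_pow, one_mul,
            show (2 * 2 : ℕ) = 3 + 1 by rfl, pow_succ, h3, one_mul]
        have e3 : (t * w) ^ 3 = t := by rw [htw.mul_pow, h3, mul_one, pow_succ, h2, one_mul]
        exact Sigma.subtype_ext (Subtype.ext e4) e3 }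
  rw [Nat.card_congr e, Nat.card_sigma, Finset.sum_const_nat (fun w _ => hfib w), Finset.card_univ,
    ← Nat.card_eq_fintype_card, h.count_three]

theorem Eleven.no_twelve (g : G) : orderOf g ≠ 12 := by
  intro hg
  have hw : orderOf (g ^ 4) = 3 := by rw [orderOf_pow' _ (by norm_num), hg]; rfl
  have ht : orderOf (g ^ 6) = 2 := by rw [orderOf_pow' _ (by norm_num), hg]; rfl
  obtain ⟨d, e, -, hF⟩ := Finset.card_eq_two.mp (h.fix_three hw)
  have hd : g ^ 4 • d = d := mem_fixSet.mp (by rw [hF]; simp)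
  have hmem : ∀ x : α, g ^ 4 • x = x → x = d ∨ x = e := fun x hx => by
    have := mem_fixSet.mpr hx
    rw [hF] at this
    simpa using this
  have he : g ^ 4 • e = e := mem_fixSet.mp (by rw [hF]; simp)
  have hp : ∀ x : α, g ^ 4 • x = x → g ^ 4 • g ^ 3 • x = g ^ 3 • x := fun x hx => by
    rw [← mul_smul, (Commute.pow_pow_self g 4 3).eq, mul_smul, hx]
  refine ((h.three_invol hw).1 _ ht (Commute.pow_pow_self g 6 4)).1 d hd ?_
  rw [show g ^ 6 = g ^ 3 * g ^ 3 by rw [← pow_add], mul_smul]
  rcases hmem _ (hp d hd) with h1 | h1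
  · rw [h1, h1]
  · rw [h1]
    rcases hmem _ (hp e he) with h2 | h2
    · exact h2
    · have : d = e := MulAction.injective (g ^ 3) (h1.trans h2.symm)
      rw [h2, this]

theorem Eleven.no_sixteen (g : G) : orderOf g ≠ 16 := by
  intro hg
  have ht : orderOf (g ^ 8) = 2 := by rw [orderOf_pow' _ (by norm_num), hg]; rfl
  obtain ⟨a, ha⟩ : ∃ a : α, g ^ 8 • a ≠ a := by
    by_contra hall
    push Not at hall
    have : g ^ 8 = 1 := h.faithful fun a => by rw [hall a, one_smul]
    simp [this] at ht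
  set P := Function.minimalPeriod (g • ·) a with hP
  have h16 : P ∣ 16 := MulAction.pow_smul_eq_iff_minimalPeriod_dvd.mp (by rw [← hg, pow_orderOf_eq_one, one_smul])
  have h8 : ¬ P ∣ 8 := fun hd => ha (MulAction.pow_smul_eq_iff_minimalPeriod_dvd.mpr hd)
  have hle : P ≤ 11 := by
    haveI : Fintype (orbit (Subgroup.zpowers g) a) := Fintype.ofFinite _
    rw [hP, MulAction.minimalPeriod_eq_card, ← h.deg]
    exact Fintype.card_le_of_injective _ Subtype.val_injective
  have hpos : 0 < P := Nat.pos_of_dvd_of_pos h16 (by norm_num)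
  interval_cases P <;> omega

theorem Eleven.no_nine (g : G) : orderOf g ≠ 9 := by
  intro hg
  set w := g ^ 3 with hwdef
  have hw : orderOf w = 3 := by rw [hwdef, orderOf_pow' _ (by norm_num), hg]; rfl
  obtain ⟨d, e, hde, hF⟩ := Finset.card_eq_two.mp (h.fix_three hw)
  have hd : w • d = d := mem_fixSet.mp (by rw [hF]; simp)
  have he : w • e = e := mem_fixSet.mp (by rw [hF]; simp)
  have hmem : ∀ x : α, w • x = x → x = d ∨ x = e := fun x hx => by
    have := mem_fixSet.mpr hx
    rw [hF] at this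
    simpa using this
  have h9 : g ^ 9 = 1 := hg ▸ pow_orderOf_eq_one g
  have hgw : Commute g w := (Commute.refl g).pow_right 3
  have hperm : ∀ x : α, w • x = x → w • g • x = g • x := fun x hx => by
    rw [← mul_smul, ← hgw.eq, mul_smul, hx]
  have hgd : g • d = d := by
    rcases hmem _ (hperm d hd) with h1 | h1
    · exact h1
    · exfalso
      have h2 : g • e = d := (hmem _ (hperm e he)).resolve_right fun h2 =>
        hde (MulAction.injective g (h1.trans h2.symm))
      have h3 : ∀ n, (g ^ (2 * n)) • d = d := fun n => by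
        induction n with
        | zero => simp
        | succ n ih => rw [show 2 * (n + 1) = 2 + 2 * n by ring, pow_add, mul_smul, ih, sq, mul_smul, h1, h2]
      have h4 := h3 4
      have h5 : g ^ 9 • d = g • g ^ (2 * 4) • d := by rw [← mul_smul, ← pow_succ']
      rw [h9, h4, one_smul, h1] at h5
      exact hde h5
  obtain ⟨a, ha⟩ : ∃ a : α, w • a ≠ a := by
    by_contra hall
    push Not at hall
    have : w = 1 := h.faithful fun a => by rw [hall a, one_smul]
    simp [this] at hw
  let C : Subgroup G := stabilizer G d ⊓ Subgroup.centralizer {w}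
  have hfree : ∀ u ∈ C, u • a = a → u = 1 := by
    rintro u ⟨hud, huw⟩ hua
    have hc : ∀ y : α, u • y = y → u • w • y = w • y := fun y hy => by
      rw [← mul_smul, (Subgroup.mem_centralizer_singleton_iff.mp huw : u * w = w * u), mul_smul, hy]
    have h3 : w • w • w • a = a := by
      rw [← mul_smul, ← mul_smul, show w * w * w = w ^ orderOf w by rw [hw, pow_succ, sq], pow_orderOf_eq_one, one_smul]
    refine h.sharp.key u a (w • a) (w • w • a) d ?_ hua (hc _ hua) (hc _ (hc _ hua)) hud
    refine ⟨Ne.symm ha, fun e => ha ((congrArg (w • ·) e).trans h3),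
      fun e => ha (by subst e; exact hd), fun e => ha (MulAction.injective w e.symm),
      fun e => ha (MulAction.injective w ((congrArg (w • ·) e).trans (hd.trans e.symm))), fun e => ha ?_⟩
    have h1 : w • w • w • a = w • d := congrArg (w • ·) e
    rw [h3, hd] at h1
    subst h1; exact hd
  have hgC : g ∈ C := ⟨hgd, Subgroup.mem_centralizer_singleton_iff.mpr hgw.eq⟩
  have hC : Subgroup.zpowers g = C := by
    refine Subgroup.eq_of_le_of_card_ge (Subgroup.zpowers_le.mpr hgC) ?_
    rw [Nat.card_zpowers, hg]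
    have hinj : Function.Injective fun u : C =>
        (⟨(u : G) • a, fun e => ha (by
          have hc : (u : G) * w = w * u := Subgroup.mem_centralizer_singleton_iff.mp u.2.2
          refine MulAction.injective (u : G) ?_
          change (u : G) • w • a = (u : G) • a
          rw [← mul_smul, hc, mul_smul, e])⟩ : {x : α // w • x ≠ x}) := by
      intro u u' e
      have e' : (u : G) • a = (u' : G) • a := congrArg Subtype.val e
      have := hfree _ (C.mul_mem (C.inv_mem u'.2) u.2) (by rw [mul_smul, e', inv_smul_smul])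
      exact Subtype.ext (inv_mul_eq_one.mp this).symm
    have := Nat.card_le_card_of_injective _ hinj
    rwa [card_moved_sub, h.deg, h.fix_three hw] at this
  obtain ⟨t, ⟨ht, htw, hta⟩, -⟩ := (h.three_invol hw).2 a ha
  have htd : t • d = e := (hmem _ (by rw [← mul_smul, ← htw.eq, mul_smul, hd])).resolve_left
    (((h.three_invol hw).1 t ht htw).1 d hd)
  have ht2 : t ^ 2 = 1 := ht ▸ pow_orderOf_eq_one t
  have htinv : t⁻¹ = t := inv_eq_of_mul_eq_one_right (by rw [← sq, ht2])
  have hte : t • e = d := by rw [← htd, ← mul_smul, ← sq, ht2, one_smul]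
  have hge : g • e = e := (hmem _ (hperm e he)).resolve_left fun h1 =>
    hde (MulAction.injective g (hgd.trans h1.symm))
  have hconj : t * g * t ∈ C := by
    refine ⟨?_, Subgroup.mem_centralizer_singleton_iff.mpr ((htw.mul_left hgw).mul_left htw).eq⟩
    change (t * g * t) • d = d
    rw [mul_smul, mul_smul, htd, hge, hte]
  rw [← hC, ← mem_powers_iff_mem_zpowers, Submonoid.mem_powers_iff] at hconj
  obtain ⟨i, hi⟩ := hconj
  have hpowconj : ∀ n : ℕ, (t * g * t) ^ n = t * g ^ n * t := fun n => by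
    have := conj_pow (a := t) (b := g) (i := n)
    rwa [htinv] at this
  have hi3 : i % 3 = 1 := by
    have h1 : (g ^ i) ^ 3 = w := by
      rw [hi, hpowconj, ← hwdef, htw.eq, mul_assoc, ← sq, ht2, mul_one]
    rw [hwdef, ← pow_mul, pow_inj_mod, hg] at h1
    omega
  have hii : i * i % 9 = 1 := by
    have h1 : g ^ (i * i) = g := by
      rw [pow_mul, hi, hpowconj, hi, ← mul_assoc, ← mul_assoc, ← sq, ht2, one_mul, mul_assoc, ← sq, ht2, mul_one]
    conv_rhs at h1 => rw [← pow_one g]
    rw [pow_inj_mod, hg] at h1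
    omega
  have hi9 : i % 9 = 1 := by
    rw [Nat.mul_mod] at hii
    have := Nat.mod_lt i (show 0 < 9 by norm_num)
    have : i % 9 % 3 = 1 := by omega
    interval_cases hj : i % 9 <;> omega
  have htg : Commute t g := by
    have h1 : t * g * t = g := by rw [← hi, ← pow_mod_orderOf, hg, hi9, pow_one]
    calc t * g = t * g * t * t := by rw [mul_assoc, ← sq, ht2, mul_one]
      _ = g * t := by rw [h1]
  have hgafix : t • g • a = g • a := by rw [← mul_smul, htg.eq, mul_smul, hta]
  -- `t` fixes the three points of the cycle of `a` only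
  have h3pts : ({a, w • a, w • w • a} : Finset α) ⊆ fixSet t := by
    have hc : ∀ y : α, t • y = y → t • w • y = w • y := fun y hy => by rw [← mul_smul, htw.eq, mul_smul, hy]
    intro x hx
    simp only [Finset.mem_insert, Finset.mem_singleton] at hx
    rcases hx with rfl | rfl | rfl
    exacts [mem_fixSet.mpr hta, mem_fixSet.mpr (hc _ hta), mem_fixSet.mpr (hc _ (hc _ hta))]
  have hwwa : w • w • a ≠ a := fun e1 => ha (by
    have : w • w • w • a = w • a := congrArg (w • ·) e1
    rw [← mul_smul, ← mul_smul, show w * w * w = w ^ orderOf w by rw [hw, pow_succ, sq],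
      pow_orderOf_eq_one, one_smul] at this
    exact this.symm)
  have heq : ({a, w • a, w • w • a} : Finset α) = fixSet t := Finset.eq_of_subset_of_card_le h3pts (by
    rw [h.fix_invol ht, Finset.card_insert_of_notMem, Finset.card_pair]
    · exact fun e1 => ha (MulAction.injective w e1.symm)
    · simp only [Finset.mem_insert, Finset.mem_singleton, not_or]
      exact ⟨Ne.symm ha, Ne.symm hwwa⟩)
  have hmemga : g • a ∈ ({a, w • a, w • w • a} : Finset α) := heq ▸ mem_fixSet.mpr hgafix
  simp only [Finset.mem_insert, Finset.mem_singleton] at hmemga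
  have hkill : ∀ n : ℕ, n % 3 ≠ 0 → g ^ n • a = a → False := by
    intro n hn hna
    have h1 := MulAction.pow_smul_eq_iff_minimalPeriod_dvd.mp hna
    have h2 : Function.minimalPeriod (g • ·) a ∣ 9 :=
      MulAction.pow_smul_eq_iff_minimalPeriod_dvd.mp (by rw [h9, one_smul])
    have h3 : Function.minimalPeriod (g • ·) a ∣ 3 := by
      refine (Nat.dvd_gcd h1 h2).trans ?_
      have hg' : Nat.gcd n 9 ∣ 9 := Nat.gcd_dvd_right n 9
      have hn' : Nat.gcd n 9 ∣ n := Nat.gcd_dvd_left n 9
      have hle := Nat.le_of_dvd (by norm_num) hg'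
      interval_cases hk : Nat.gcd n 9 <;> omega
    exact ha (MulAction.pow_smul_eq_iff_minimalPeriod_dvd.mpr h3)
  rcases hmemga with h1 | h1 | h1
  · exact hkill 1 (by norm_num) (by rw [pow_one, h1])
  · refine hkill 7 (by norm_num) ?_
    calc g ^ 7 • a = g ^ 6 • g • a := by rw [← mul_smul, ← pow_succ]
      _ = g ^ 6 • w • a := by rw [h1]
      _ = a := by rw [hwdef, ← mul_smul, ← pow_add, h9, one_smul]
  · refine hkill 4 (by norm_num) ?_
    calc g ^ 4 • a = g ^ 3 • g • a := by rw [← mul_smul, ← pow_succ]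
      _ = g ^ 3 • g ^ 3 • g ^ 3 • a := by rw [h1]
      _ = a := by rw [← mul_smul, ← mul_smul, ← pow_add, ← pow_add, h9, one_smul]

/-- The element orders. -/
theorem Eleven.orders (g : G) : orderOf g ∈ ({1, 2, 3, 4, 5, 6, 8, 11} : Finset ℕ) := by
  have hdvd : orderOf g ∣ 7920 := h.card ▸ orderOf_dvd_natCard g
  have hpos := orderOf_pos g
  have hpr : ∀ p, p.Prime → (∀ w : G, orderOf w = p → Nat.card (Subgroup.centralizer ({w} : Set G)) = p) →
      p ∣ orderOf g → orderOf g = p := by
    intro p hp hC hpg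
    obtain ⟨m, hm⟩ := hpg
    have hm0 : m ≠ 0 := by rintro rfl; rw [mul_zero] at hm; omega
    have hwo : orderOf (g ^ m) = p := by
      rw [orderOf_pow' _ hm0, hm, Nat.gcd_eq_right (dvd_mul_left m p), Nat.mul_div_cancel _ (Nat.pos_of_ne_zero hm0)]
    have hmem : g ∈ Subgroup.centralizer ({g ^ m} : Set G) :=
      Subgroup.mem_centralizer_singleton_iff.mpr ((Commute.refl g).pow_right m).eq
    exact Nat.dvd_antisymm (hC _ hwo ▸ Subgroup.orderOf_dvd_natCard _ hmem) ⟨m, hm⟩
  by_cases h5 : 5 ∣ orderOf g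
  · simp [hpr 5 (by norm_num) (fun w hw => h.centralizer_card_five hw) h5]
  by_cases h11 : 11 ∣ orderOf g
  · simp [hpr 11 (by norm_num) (fun w hw => h.centralizer_card_eleven hw) h11]
  have hbad : ∀ n, (∀ u : G, orderOf u ≠ n) → ¬ n ∣ orderOf g := by
    intro n hn hd
    obtain ⟨m, hm⟩ := hd
    have hm0 : m ≠ 0 := by rintro rfl; rw [mul_zero] at hm; omega
    exact hn (g ^ m) (by
      rw [orderOf_pow' _ hm0, hm, Nat.gcd_eq_right (dvd_mul_left m n), Nat.mul_div_cancel _ (Nat.pos_of_ne_zero hm0)])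
  have h9 := hbad 9 h.no_nine
  have h12 := hbad 12 h.no_twelve
  have h16 := hbad 16 h.no_sixteen
  have hd144 : orderOf g ∣ 144 := by
    have c5 : Nat.Coprime (orderOf g) 5 := ((Nat.Prime.coprime_iff_not_dvd (by norm_num)).mpr h5).symm
    have c11 : Nat.Coprime (orderOf g) 11 := ((Nat.Prime.coprime_iff_not_dvd (by norm_num)).mpr h11).symm
    exact c5.dvd_of_dvd_mul_right (c11.dvd_of_dvd_mul_right (show orderOf g ∣ 144 * 5 * 11 by simpa using hdvd))
  have hmem : orderOf g ∈ Nat.divisors 144 := Nat.mem_divisors.mpr ⟨hd144, by norm_num⟩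
  revert hmem h9 h12 h16
  generalize orderOf g = n
  intro h9 h12 h16 hmem
  have hall : ∀ n ∈ Nat.divisors 144, n % 9 = 0 ∨ n % 12 = 0 ∨ n % 16 = 0 ∨
      n ∈ ({1, 2, 3, 4, 5, 6, 8, 11} : Finset ℕ) := by decide +kernel
  rcases hall n hmem with h1 | h1 | h1 | h1
  · exact absurd (Nat.dvd_of_mod_eq_zero h1) h9
  · exact absurd (Nat.dvd_of_mod_eq_zero h1) h12
  · exact absurd (Nat.dvd_of_mod_eq_zero h1) h16
  · exact h1

theorem Eleven.count_sylow {p e : ℕ} [Fact p.Prime] (hp : ¬ p ^ 2 ∣ 7920) (hpd : p ∣ 7920)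
    (hC : ∀ w : G, orderOf w = p → Nat.card (Subgroup.centralizer ({w} : Set G)) = p)
    (he : ∀ k ≤ p - 1, k ∣ p - 1 → 7920 % (p * k) = 0 → 7920 / (p * k) % p = 1 → k = e) :
    Nat.card {g : G // orderOf g = p} = 7920 / (p * e) * (p - 1) := by
  have hpp := (Fact.out : p.Prime)
  have hcardP : ∀ P : Sylow p G, Nat.card P = p := fun P => by
    obtain ⟨n, hn⟩ := (IsPGroup.iff_card (p := p)).mp P.isPGroup'
    have h1 : p ^ n ∣ 7920 := hn ▸ h.card ▸ (P : Subgroup G).card_subgroup_dvd_card
    have hn1 : n < 2 := by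
      by_contra h2
      exact hp ((pow_dvd_pow p (by omega)).trans h1)
    have hn0 : n ≠ 0 := by
      rintro rfl
      have h2 := P.dvd_card_of_dvd_card (h.card ▸ hpd)
      rw [hn, pow_zero, Nat.dvd_one] at h2
      exact hpp.one_lt.ne' h2
    rw [hn, show n = 1 by omega, pow_one]
  obtain ⟨P⟩ : Nonempty (Sylow p G) := inferInstance
  set N := Subgroup.normalizer ((P : Subgroup G) : Set G)
  obtain ⟨k, hk⟩ : p ∣ Nat.card N := hcardP P ▸ Subgroup.card_dvd_of_le Subgroup.le_normalizer
  have hkp := card_centralizer_class P (hcardP P) hC hk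
  have hsyl : Nat.card (Sylow p G) * (p * k) = 7920 := by
    rw [← hk, P.card_eq_index_normalizer]
    exact (Subgroup.index_mul_card N).trans h.card
  have hk0 : 0 < p * k := by
    rcases Nat.eq_zero_or_pos (p * k) with h0 | h0
    · rw [h0, mul_zero] at hsyl; omega
    · exact h0
  have hn : Nat.card (Sylow p G) = 7920 / (p * k) := (Nat.div_eq_of_eq_mul_left hk0 hsyl.symm).symm
  have hmod := card_sylow_modEq_one p G
  rw [Nat.ModEq, Nat.mod_eq_of_lt hpp.one_lt, hn] at hmod
  have hke := he k (Nat.le_of_dvd (by have := hpp.two_le; omega) hkp) hkp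
    (Nat.mod_eq_zero_of_dvd ⟨Nat.card (Sylow p G), by rw [← hsyl]; ring⟩) hmod
  rw [card_orderOf_prime hcardP, hn, hke]

/-- The numbers of elements of given order. -/
theorem Eleven.nse : {c : ℕ | 0 < c ∧ ∃ n : ℕ, c = Nat.card {g : G // orderOf g = n}} =
    {1, 165, 440, 990, 1584, 1320, 1980, 1440} := by
  haveI : Fact (Nat.Prime 11) := ⟨by norm_num⟩
  haveI : Fact (Nat.Prime 5) := ⟨by norm_num⟩
  have c1 : Nat.card {g : G // orderOf g = 1} = 1 := by
    rw [Nat.card_eq_one_iff_unique]
    exact ⟨⟨fun a b => Subtype.ext ((orderOf_eq_one_iff.mp a.2).trans (orderOf_eq_one_iff.mp b.2).symm)⟩,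
      ⟨⟨1, orderOf_one⟩⟩⟩
  have c5 : Nat.card {g : G // orderOf g = 5} = 1584 :=
    h.count_sylow (p := 5) (e := 4) (by norm_num) (by norm_num) (fun w hw => h.centralizer_card_five hw)
      (by decide +kernel)
  have c11 : Nat.card {g : G // orderOf g = 11} = 1440 :=
    h.count_sylow (p := 11) (e := 5) (by norm_num) (by norm_num) (fun w hw => h.centralizer_card_eleven hw)
      (by decide +kernel)
  have c2 := h.count_two
  have c3 := h.count_three
  have c4 := h.count_four
  have c6 := h.count_six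
  haveI := Fintype.ofFinite G
  have c8 : Nat.card {g : G // orderOf g = 8} = 1980 := by
    have hsum := Finset.card_eq_sum_card_fiberwise (f := fun g : G => orderOf g)
      (s := Finset.univ) (t := ({1, 2, 3, 4, 5, 6, 8, 11} : Finset ℕ)) (fun g _ => h.orders g)
    have e : ∀ n, (Finset.univ.filter fun g : G => orderOf g = n).card = Nat.card {g : G // orderOf g = n} :=
      fun n => by rw [Nat.card_eq_fintype_card, Fintype.card_subtype]
    simp only [e] at hsum
    rw [Finset.card_univ, ← Nat.card_eq_fintype_card, h.card, Finset.sum_insert (by decide),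
      Finset.sum_insert (by decide), Finset.sum_insert (by decide), Finset.sum_insert (by decide),
      Finset.sum_insert (by decide), Finset.sum_insert (by decide), Finset.sum_insert (by decide),
      Finset.sum_singleton] at hsum
    omega
  ext c
  simp only [Set.mem_setOf_eq, Set.mem_insert_iff, Set.mem_singleton_iff]
  constructor
  · rintro ⟨hc, n, rfl⟩
    obtain ⟨⟨g, hg⟩⟩ := (Nat.card_pos_iff.mp hc).1
    have := h.orders g
    rw [hg] at this
    simp only [Finset.mem_insert, Finset.mem_singleton] at this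
    rcases this with rfl | rfl | rfl | rfl | rfl | rfl | rfl | rfl <;> omega
  · rintro (rfl | rfl | rfl | rfl | rfl | rfl | rfl | rfl)
    exacts [⟨by norm_num, 1, c1.symm⟩, ⟨by norm_num, 2, c2.symm⟩, ⟨by norm_num, 3, c3.symm⟩,
      ⟨by norm_num, 4, c4.symm⟩, ⟨by norm_num, 5, c5.symm⟩, ⟨by norm_num, 6, c6.symm⟩,
      ⟨by norm_num, 8, c8.symm⟩, ⟨by norm_num, 11, c11.symm⟩]

omit h

end Cfsg.Agent.NSE
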